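import Mathlib
import Cfsg.Agent.Lib.Helper10.Co1O.Defs
import Cfsg.Agent.Lib.Helper14.LeechOrbit
import Cfsg.Agent.Lib.Helper14.Co0Order

set_option autoImplicit false

/-!
S2069 (`Out(Co1) = 1`), leaf CO6: `Co0` is generated by the monomial group `Nt = 2^12 : M24` and `ξ`.
The orbit argument of `Cfsg.Agent.Lib.Helper14.LeechOrbit` (transitivity of `Co0` on the vectors of
norm 64 uses only monomial elements and `ξ`), with the orbit relation relativised to the subgroup
generated by `Nt` and `ξ`; the stabiliser of `8 e_∞` is monomial.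
-/

namespace Cfsg.Agent.Lib.Helper7.Co1Leaf

open Cfsg
open Cfsg.Agent.Lib.Helper14.Golay
open Cfsg.Agent.Lib.Helper14.Leech
open Cfsg.Agent.Lib.Helper14.LeechCount
open Cfsg.Agent.Lib.Helper14.LeechMono
open Cfsg.Agent.Lib.Helper14.LeechXi
open Cfsg.Agent.Lib.Helper14.LeechOrbit
open Cfsg.Agent.Lib.Helper14.Co0Order
open Cfsg.Agent.Lib.Helper14.Co0Center
open Cfsg.Agent.Lib.Helper3.Golay
open Cfsg.Agent.Lib.Helper10.Co1O
open Cfsg.Agent.Lib.Helper3.Co1Gens (xiC)
open scoped Pointwise

/-! ### the orbit relation of the subgroup generated by `Nt` and `ξ` -/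

/-- the subgroup of `Co0` generated by the monomial group and `ξ` -/
noncomputable def HX : Subgroup ↥Co0 := Subgroup.closure ((Nt : Set ↥Co0) ∪ {xiC})

/-- equivalence of lattice vectors under `HX` -/
def EqvH (x y : GolayPt → ℤ) : Prop :=
  ∃ (hx : x ∈ leechLattice) (g : ↥Co0), g ∈ HX ∧
    (((g : Equiv.Perm ↥leechLattice) ⟨x, hx⟩ : ↥leechLattice) : GolayPt → ℤ) = y

theorem EqvH.mem_left {x y : GolayPt → ℤ} (h : EqvH x y) : x ∈ leechLattice := h.1

theorem EqvH.mem_right {x y : GolayPt → ℤ} (h : EqvH x y) : y ∈ leechLattice := by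
  obtain ⟨hx, g, _, rfl⟩ := h
  exact ((g : Equiv.Perm ↥leechLattice) ⟨x, hx⟩).2

theorem EqvH.refl {x : GolayPt → ℤ} (hx : x ∈ leechLattice) : EqvH x x :=
  ⟨hx, 1, HX.one_mem, rfl⟩

theorem EqvH.trans {x y z : GolayPt → ℤ} (h1 : EqvH x y) (h2 : EqvH y z) : EqvH x z := by
  obtain ⟨hx, g1, hg1, rfl⟩ := h1
  obtain ⟨hy, g2, hg2, rfl⟩ := h2
  exact ⟨hx, g2 * g1, HX.mul_mem hg2 hg1, rfl⟩

theorem EqvH.symm {x y : GolayPt → ℤ} (h : EqvH x y) : EqvH y x := by
  obtain ⟨hx, g, hg, rfl⟩ := h
  refine ⟨((g : Equiv.Perm ↥leechLattice) ⟨x, hx⟩).2, g⁻¹, HX.inv_mem hg, ?_⟩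
  simp

theorem EqvH.sqNorm_eq {x y : GolayPt → ℤ} (h : EqvH x y) : sqNorm y = sqNorm x := by
  obtain ⟨hx, g, hg, rfl⟩ := h
  exact g.2.2 ⟨x, hx⟩

theorem eqvH_signedPerm {x : GolayPt → ℤ} (hx : x ∈ leechLattice) (σ : Equiv.Perm GolayPt)
    (hσ : σ ∈ M24) (c : Finset GolayPt)
    (hc : c ∈ supports (golayCode : Set (GolayPt → ZMod 2))) : EqvH x (signedPerm σ c x) := by
  obtain ⟨w, hw, rfl⟩ := hc
  exact ⟨hx, monoC ⟨σ, hσ⟩ ⟨w, hw⟩,
    Subgroup.subset_closure (Or.inl (monoC_mem_Nt _ _)), rfl⟩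

theorem eqvH_perm {x : GolayPt → ℤ} (hx : x ∈ leechLattice) (σ : Equiv.Perm GolayPt)
    (hσ : σ ∈ M24) : EqvH x (fun i => x (σ.symm i)) := by
  have := eqvH_signedPerm hx σ hσ ∅ supports_empty
  convert this using 1
  funext i
  rw [signedPerm_apply, if_neg (Finset.notMem_empty i)]

theorem eqvH_xi {x : GolayPt → ℤ} (hx : x ∈ leechLattice) : EqvH x (xi x) :=
  ⟨hx, xiC, Subgroup.subset_closure (Or.inr rfl), rfl⟩

/-! ### the orbit argument (copied from `LeechOrbit`, relativised) -/

/-- the monomial group is transitive on odd vectors of a given shape -/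
theorem eqvH_PhiT (w : GolayPt → ZMod 2) (hw : w ∈ golayCode) (P M P' M' : Finset GolayPt)
    (hx : PhiT w (tauPM P M) ∈ leechLattice) (hPM : Disjoint P M) (hPM' : Disjoint P' M')
    (hP : P.card = P'.card) (hM : M.card = M'.card) (h5 : P.card + M.card ≤ 5) :
    EqvH (PhiT w (tauPM P M)) (PhiT 0 (tauPM P' M')) := by
  obtain ⟨σ, hσ, hσP, hσM⟩ := exists_map_pair P M P' M' hPM hPM' hP hM h5
  have hw' : permWord σ w ∈ golayCode := (mem_M24_iff σ).mp hσ w hw
  have h := eqvH_signedPerm hx σ hσ (support₂ (permWord σ w)) ⟨_, hw', rfl⟩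
  convert h using 1
  funext i
  rw [signedPerm_apply, PhiT_apply, PhiT_apply]
  have ht : tauPM P' M' i = tauPM P M (σ.symm i) := by
    unfold tauPM
    rw [← hσP, ← hσM]
    simp only [mem_smul_iff]
  rw [ht]
  simp only [Pi.zero_apply, ZMod.val_zero, Nat.cast_zero, mul_zero, sub_zero, one_mul]
  by_cases hi : i ∈ support₂ (permWord σ w)
  · rw [if_pos hi]
    have hv := (mem_support₂_iff _ _).mp hi
    rw [permWord_apply] at hv
    rw [hv]; push_cast; ring
  · rw [if_neg hi]
    have hv := (notMem_support₂_iff _ _).mp hi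
    rw [permWord_apply] at hv
    rw [hv]; push_cast; ring

theorem oddH64_aux (x : GolayPt → ℤ) (hx : x ∈ leechLattice) (hodd : x none % 2 = 1)
    (hn : sqNorm x = 64) : EqvH x T64 ∨ EqvH x S64 := by
  obtain ⟨w, hw, P, M, hd, rfl, hc⟩ := odd_classify x hx hodd 5 (by norm_num) (by rw [hn]; norm_num)
  have hc' : 3 * P.card + M.card = 5 := by exact_mod_cast hc
  have hcases : (P.card = 0 ∧ M.card = 5) ∨ (P.card = 1 ∧ M.card = 2) := by omega
  rcases hcases with ⟨hP, hM⟩ | ⟨hP, hM⟩
  · left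
    exact eqvH_PhiT w hw P M ∅ M5 hx hd (Finset.disjoint_empty_left _) (by rw [hP]; rfl)
      (by rw [hM, card_M5]) (by omega)
  · right
    exact eqvH_PhiT w hw P M M1 M2 hx hd (by decide) (by rw [hP, card_M1])
      (by rw [hM, card_M2]) (by omega)

theorem oddH64 (x : GolayPt → ℤ) (hx : x ∈ leechLattice) (hodd : x none % 2 = 1)
    (hn : sqNorm x = 64) : EqvH x T64 := by
  rcases oddH64_aux x hx hodd hn with h | h
  · exact h
  · have hS : S64 ∈ leechLattice := h.mem_right
    have h2 := eqvH_xi hS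
    have hn2 : sqNorm (xi S64) = 64 := by rw [h2.sqNorm_eq, h.sqNorm_eq, hn]
    have hy := h2.mem_right
    obtain ⟨w, hw, P, M, hd, he, hc⟩ := odd_classify (xi S64) hy xi_S64_facts.1 5 (by norm_num)
      (by rw [hn2]; norm_num)
    have hc' : 3 * P.card + M.card = 5 := by exact_mod_cast hc
    have hP : P.card = 0 := by
      by_contra hne
      obtain ⟨j, hj⟩ : P.Nonempty := Finset.card_pos.mp (Nat.pos_of_ne_zero hne)
      have := PhiT_P_entry w P M hd j hj
      rw [← he] at this
      have h5 := xi_S64_facts.2 j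
      tauto
    have hM : M.card = 5 := by omega
    rw [he] at hy h2
    have h3 := eqvH_PhiT w hw P M ∅ M5 hy hd (Finset.disjoint_empty_left _) (by rw [hP]; rfl)
      (by rw [hM, card_M5]) (by omega)
    exact (h.trans h2).trans h3

/-- an even lattice vector of norm at most 64 with an entry `≡ 2 (mod 4)` is equivalent to an odd
vector -/
theorem evenH_to_odd (x : GolayPt → ℤ) (hx : x ∈ leechLattice) (i0 : GolayPt)
    (hi0 : x i0 % 4 = 2) (hn : sqNorm x ≤ 64) : ∃ y, EqvH x y ∧ y none % 2 = 1 := by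
  have hx' := hx
  rw [mem_leechLattice_iff, mem_leechSet_iff01] at hx'
  obtain ⟨m, hm, w, hw, h1, -⟩ := hx'
  have hm0 : m = 0 := by
    rcases hm with rfl | rfl
    · rfl
    · exfalso
      have := h1 i0
      have hv := val_cases (w i0)
      omega
  subst hm0
  have hin : ∀ k, k ∈ support₂ w → x k % 4 = 2 := by
    intro k hk
    have := h1 k
    rw [(mem_support₂_iff w k).mp hk] at this
    omega
  have hout : ∀ k, k ∉ support₂ w → x k % 4 = 0 := by
    intro k hk
    have := h1 k
    rw [(notMem_support₂_iff w k).mp hk] at this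
    omega
  -- weight of `w`
  have hwt := weight_mem hw
  have hnorm : hammingNorm w = (support₂ w).card := rfl
  rw [hnorm] at hwt
  have hlow : ∀ k ∈ support₂ w, (4 : ℤ) ≤ x k ^ 2 := by
    intro k hk
    have := hin k hk
    have h' : 2 ≤ x k ∨ x k ≤ -2 := by omega
    rcases h' with h' | h' <;> nlinarith
  have hcard := card_le_of_sq x (support₂ w) 4 hlow
  have hi0s : i0 ∈ support₂ w := by
    by_contra hcon
    have := hout i0 hcon
    omega
  -- find a suitable permutation
  have key : ∃ σ ∈ M24, Good (σ • support₂ w) := by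
    rcases hwt with h | h | h | h | h
    · exfalso
      rw [Finset.card_eq_zero] at h
      rw [h] at hi0s
      exact Finset.notMem_empty _ hi0s
    · obtain ⟨σ, hσ, hσs⟩ := exists_map_octad (o := support₂ w) ⟨⟨w, hw, rfl⟩, h⟩ O3_mem
      exact ⟨σ, hσ, by rw [hσs]; exact good_O3⟩
    · obtain ⟨σ, hσ, hσs⟩ := exists_map_dodecad (d := support₂ w) ⟨⟨w, hw, rfl⟩, h⟩ D3_mem
      exact ⟨σ, hσ, by rw [hσs]; exact good_D3⟩
    · have hc : (support₂ w)ᶜ ∈ octads := by
        refine ⟨⟨w + 1, Submodule.add_mem _ hw one_mem_golay, ?_⟩, ?_⟩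
        · ext k
          rw [Finset.mem_compl]
          unfold support₂
          simp only [Finset.mem_filter, Finset.mem_univ, true_and, Pi.add_apply, Pi.one_apply]
          rw [add_one_ne_zero_iff_val, ne_zero_iff_val]
          have := val_cases (w k)
          omega
        · rw [Finset.card_compl, card_golayPt, h]
      obtain ⟨σ, hσ, hσs⟩ := exists_map_octad hc O3_mem
      refine ⟨σ, hσ, ?_⟩
      have : σ • support₂ w = (bitSet O3m)ᶜ := by
        rw [← hσs]
        ext k
        rw [Finset.mem_compl, mem_smul_iff, mem_smul_iff, Finset.mem_compl, not_not]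
      rw [this]; exact good_O3c
    · exfalso
      rw [h] at hcard
      push_cast at hcard
      omega
  obtain ⟨σ, hσ, hgood⟩ := key
  have h1' := eqvH_perm hx σ hσ
  have hx1 := h1'.mem_right
  have h2' := eqvH_xi hx1
  refine ⟨_, h1'.trans h2', ?_⟩
  apply xi_odd_of_good _ _ hgood
  · intro k hk
    rw [mem_smul_iff] at hk
    exact hin _ hk
  · intro k hk
    rw [mem_smul_iff] at hk
    exact hout _ hk

/-- a vector divisible by 4 with between one and four entries `≡ 4 (mod 8)` is equivalent to a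
vector with an entry `≡ 2 (mod 4)` -/
theorem fourH_to_two (x : GolayPt → ℤ) (hx : x ∈ leechLattice) (h4 : ∀ i, x i % 4 = 0)
    (hne : (Finset.univ.filter (fun i => x i % 8 = 4)).Nonempty)
    (hcard : (Finset.univ.filter (fun i => x i % 8 = 4)).card ≤ 4) :
    ∃ y, EqvH x y ∧ ∃ i1, y i1 % 4 = 2 := by
  classical
  set A := Finset.univ.filter (fun i => x i % 8 = 4) with hA
  obtain ⟨a, ha⟩ := hne
  have hMc : (A.erase a).card ≤ Base3.card := by
    rw [Finset.card_erase_of_mem ha, card_Base3]; omega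
  obtain ⟨M', hM'sub, hM'card⟩ := Finset.exists_subset_card_eq hMc
  have hnoneM' : (none : GolayPt) ∉ M' := fun h => base3_facts.1 (hM'sub h)
  obtain ⟨σ, hσ, hσa, hσM⟩ := exists_map_pair {a} (A.erase a) {none} M'
    (by rw [Finset.disjoint_singleton_left]; exact Finset.notMem_erase a A)
    (by rw [Finset.disjoint_singleton_left]; exact hnoneM')
    (by simp) hM'card.symm
    (by rw [Finset.card_singleton, Finset.card_erase_of_mem ha]; omega)
  have hσa' : σ.symm none = a := by
    have : (none : GolayPt) ∈ σ • ({a} : Finset GolayPt) := by rw [hσa]; simp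
    rw [mem_smul_iff, Finset.mem_singleton] at this
    exact this
  have h1 := eqvH_perm hx σ hσ
  have hx1 := h1.mem_right
  have h2 := eqvH_xi hx1
  refine ⟨_, h1.trans h2, some 0, ?_⟩
  set x' : GolayPt → ℤ := fun i => x (σ.symm i) with hx'
  have hout : ∀ k : GolayPt, k ≠ none → k ∉ Base3 → x' k % 8 = 0 := by
    intro k hk1 hk2
    have hnA : σ.symm k ∉ A := by
      intro hmem
      by_cases hka : σ.symm k = a
      · apply hk1
        rw [← hσa'] at hka
        exact σ.symm.injective hka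
      · have : σ.symm k ∈ A.erase a := Finset.mem_erase.mpr ⟨hka, hmem⟩
        have : k ∈ σ • (A.erase a) := (mem_smul_iff σ _ k).mpr this
        rw [hσM] at this
        exact hk2 (hM'sub this)
    have h8 : ¬ x (σ.symm k) % 8 = 4 := by
      intro h
      exact hnA (Finset.mem_filter.mpr ⟨Finset.mem_univ _, h⟩)
    have := h4 (σ.symm k)
    show x (σ.symm k) % 8 = 0
    omega
  have hnone : x' none % 8 = 4 := by
    show x (σ.symm none) % 8 = 4
    rw [hσa']
    exact (Finset.mem_filter.mp ha).2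
  have h0 := hout (some 0) (by simp) base3_facts.2.1
  have h1' := hout (some 1) (by simp) base3_facts.2.2.1
  have h2' := hout (some 2) (by simp) base3_facts.2.2.2
  have hts := tetSum_none x'
  rw [xi_apply, sgn_some0, hs_congr x' tet_some0]
  unfold hs
  omega

theorem eightH_to_four (a : GolayPt) (s : ℤ) (hs : s = 8 ∨ s = -8)
    (hx : (Pi.single a s : GolayPt → ℤ) ∈ leechLattice) :
    ∃ y, EqvH (Pi.single a s) y ∧ (∀ i, y i % 4 = 0) ∧
      (Finset.univ.filter (fun i => y i % 8 = 4)).card = 4 := by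
  obtain ⟨σ, hσ, hσa⟩ := exists_map_one a none
  have h1 := eqvH_perm hx σ hσ
  have he : (fun i => (Pi.single a s : GolayPt → ℤ) (σ.symm i)) = Pi.single none s := by
    funext i
    by_cases hi : i = none
    · subst hi
      have : σ.symm none = a := by rw [← hσa]; simp
      rw [this]; simp
    · have : σ.symm i ≠ a := by
        intro h
        apply hi
        rw [← hσa, ← h]; simp
      rw [Pi.single_eq_of_ne this, Pi.single_eq_of_ne hi]
  rw [he] at h1
  have h2 := eqvH_xi h1.mem_right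
  exact ⟨_, h1.trans h2, (xi_single8 s hs).1, (xi_single8 s hs).2⟩

theorem transH_of_odd (n : ℤ) (hn0 : 0 < n) (hn64 : n ≤ 64) (T : GolayPt → ℤ)
    (hodd : ∀ y, y ∈ leechLattice → y none % 2 = 1 → sqNorm y = n → EqvH y T)
    (x : GolayPt → ℤ) (hx : x ∈ leechLattice) (hn : sqNorm x = n) : EqvH x T := by
  classical
  -- step 1: vectors with an entry `≡ 2 (mod 4)`
  have step2 : ∀ z, z ∈ leechLattice → (∃ i0, z i0 % 4 = 2) → sqNorm z = n → EqvH z T := by
    intro z hz ⟨i0, hi0⟩ hzn
    obtain ⟨y, hzy, hyodd⟩ := evenH_to_odd z hz i0 hi0 (by rw [hzn]; exact hn64)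
    exact hzy.trans (hodd y hzy.mem_right hyodd (by rw [hzy.sqNorm_eq, hzn]))
  -- step 2: vectors divisible by 4 with an entry `≡ 4 (mod 8)`
  have step4 : ∀ z, z ∈ leechLattice → (∀ i, z i % 4 = 0) →
      (Finset.univ.filter (fun i => z i % 8 = 4)).Nonempty → sqNorm z = n → EqvH z T := by
    intro z hz h4 hne hzn
    have hlow : ∀ i ∈ Finset.univ.filter (fun i => z i % 8 = 4), (16 : ℤ) ≤ z i ^ 2 := by
      intro i hi
      have := (Finset.mem_filter.mp hi).2
      have h' : 4 ≤ z i ∨ z i ≤ -4 := by omega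
      rcases h' with h' | h' <;> nlinarith
    have hc := card_le_of_sq z _ 16 hlow
    rw [hzn] at hc
    have hcard : (Finset.univ.filter (fun i => z i % 8 = 4)).card ≤ 4 := by
      have : ((Finset.univ.filter (fun i => z i % 8 = 4)).card : ℤ) ≤ 4 := by omega
      exact_mod_cast this
    obtain ⟨y, hzy, hy2⟩ := fourH_to_two z hz h4 hne hcard
    exact hzy.trans (step2 y hzy.mem_right hy2 (by rw [hzy.sqNorm_eq, hzn]))
  -- the general case
  by_cases hodd' : x none % 2 = 1
  · exact hodd x hx hodd' hn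
  have heven : ∀ i, x i % 2 = 0 := by
    have hx' := hx
    rw [mem_leechLattice_iff, mem_leechSet_iff01] at hx'
    obtain ⟨m, hm, w, hw, h1, -⟩ := hx'
    have hm0 : m = 0 := by
      rcases hm with rfl | rfl
      · rfl
      · exfalso
        have := h1 none
        have hv := val_cases (w none)
        omega
    subst hm0
    intro i
    have := h1 i
    have hv := val_cases (w i)
    omega
  by_cases h2 : ∃ i0, x i0 % 4 = 2
  · exact step2 x hx h2 hn
  have h4 : ∀ i, x i % 4 = 0 := by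
    intro i
    have := heven i
    by_contra hcon
    exact h2 ⟨i, by omega⟩
  by_cases hne : (Finset.univ.filter (fun i => x i % 8 = 4)).Nonempty
  · exact step4 x hx h4 hne hn
  -- all entries divisible by 8
  have h8 : ∀ i, x i % 8 = 0 := by
    intro i
    have := h4 i
    by_contra hcon
    apply hne
    exact ⟨i, Finset.mem_filter.mpr ⟨Finset.mem_univ _, by omega⟩⟩
  have hex : ∃ a, x a ≠ 0 := by
    by_contra hcon
    push Not at hcon
    have : sqNorm x = 0 := by
      unfold sqNorm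
      apply Finset.sum_eq_zero
      intro i _
      rw [hcon i]; ring
    omega
  obtain ⟨a, ha⟩ := hex
  have hsplit : x a ^ 2 + ∑ i ∈ Finset.univ.erase a, x i ^ 2 = sqNorm x :=
    Finset.add_sum_erase Finset.univ (fun i => x i ^ 2) (Finset.mem_univ a)
  have hrest : 0 ≤ ∑ i ∈ Finset.univ.erase a, x i ^ 2 :=
    Finset.sum_nonneg (fun i _ => sq_nonneg (x i))
  have ha64 : 64 ≤ x a ^ 2 := by
    have := h8 a
    have h' : 8 ≤ x a ∨ x a ≤ -8 := by omega
    rcases h' with h' | h' <;> nlinarith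
  have hrest0 : ∑ i ∈ Finset.univ.erase a, x i ^ 2 = 0 := by omega
  have hothers : ∀ i, i ≠ a → x i = 0 := by
    intro i hi
    have := (Finset.sum_eq_zero_iff_of_nonneg (fun i _ => sq_nonneg (x i))).mp hrest0 i
      (Finset.mem_erase.mpr ⟨hi, Finset.mem_univ _⟩)
    exact pow_eq_zero_iff (two_ne_zero) |>.mp this
  have hxa : x a = 8 ∨ x a = -8 := by
    have h64 : x a ^ 2 = 64 := by omega
    have : (x a - 8) * (x a + 8) = 0 := by ring_nf; omega
    rcases mul_eq_zero.mp this with h | h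
    · left; omega
    · right; omega
  have hxe : x = Pi.single a (x a) := by
    funext i
    by_cases hi : i = a
    · subst hi; simp
    · rw [Pi.single_eq_of_ne hi]; exact hothers i hi
  rw [hxe] at hx
  obtain ⟨y, hxy, hy4, hyc⟩ := eightH_to_four a (x a) hxa hx
  rw [← hxe] at hxy
  have hyne : (Finset.univ.filter (fun i => y i % 8 = 4)).Nonempty := by
    rw [← Finset.card_pos, hyc]; norm_num
  exact hxy.trans (step4 y hxy.mem_right hy4 hyne (by rw [hxy.sqNorm_eq, hn]))

/-- `HX` is transitive on the vectors of norm 64 -/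
theorem transH64 (x : GolayPt → ℤ) (hx : x ∈ leechLattice) (hn : sqNorm x = 64) : EqvH x T64 :=
  transH_of_odd 64 (by norm_num) (by norm_num) T64 oddH64 x hx hn

/-- CO6: `Co0` is generated by the monomial group and `ξ` -/
theorem closure_Nt_xi : Subgroup.closure ((Nt : Set ↥Co0) ∪ {xiC}) = ⊤ := by
  rw [eq_top_iff]
  intro g _
  have h1 : EqvH (v8 : GolayPt → ℤ) T64 := transH64 _ v8.2 sqNorm_v8
  have hgn : sqNorm ((g • v8 : ↥leechLattice) : GolayPt → ℤ) = 64 := by
    rw [smul_coe, g.2.2, sqNorm_v8]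
  have h2 : EqvH ((g • v8 : ↥leechLattice) : GolayPt → ℤ) T64 := transH64 _ (g • v8).2 hgn
  obtain ⟨hx, h, hh, he⟩ := h2.trans h1.symm
  have hfix : (h * g) • v8 = v8 := by
    apply Subtype.ext
    rw [mul_smul]
    exact he
  have hmem : h * g ∈ Nt := mem_Nt_of_std _ (stab_std _ hfix)
  have hg : g = h⁻¹ * (h * g) := by group
  rw [hg]
  exact Subgroup.mul_mem _ (Subgroup.inv_mem _ hh) (Subgroup.subset_closure (Or.inl hmem))

end Cfsg.Agent.Lib.Helper7.Co1Leaf
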